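import Groth.Agent.GIT.K689.Weight
import Mathlib.AlgebraicGeometry.Morphisms.Flat

/-!
# The total space of a linear atlas is flat; non-zero-divisors stay so under flat pull-back
-/

set_option autoImplicit false

universe u

open CategoryTheory CategoryTheory.Limits AlgebraicGeometry TopologicalSpace Opposite

namespace K405.FlatBun

open K689.Coord

theorem flat_appTop_of_isCoord {X V : Scheme.{u}} {p : V ⟶ X} [IsAffineHom p] {W : X.Opens}
    (hW : IsAffineOpen W) {y : Γ(V, p ⁻¹ᵁ W)} (hy : IsCoord p W y) : (p.app W).hom.Flat := by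
  have hb := hy W hW le_rfl
  let e := RingEquiv.ofBijective _ hb
  have h : (p.app W).hom = (e : Polynomial Γ(X, W) →+* Γ(V, p ⁻¹ᵁ W)).comp Polynomial.C := by
    ext c
    simp [e]
  rw [h]
  refine RingHom.Flat.comp ?_ (RingHom.Flat.of_bijective e.bijective)
  change (algebraMap Γ(X, W) (Polynomial Γ(X, W))).Flat
  rw [RingHom.flat_algebraMap_iff]
  infer_instance

theorem flat_of_atl {X V : Scheme.{u}} {p : V ⟶ X} [IsAffineHom p]
    {chart : ∀ U : X.Opens, Set (Γ(V, p ⁻¹ᵁ U))} (A : K689.Weight.Atl p chart) : Flat p := by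
  choose W _ y hW hxW hy using fun x : X => A.exists_adm (O := ⊤) (x := x) trivial
  have hcov : iSup W = ⊤ := by
    rw [eq_top_iff]
    intro x _
    exact Opens.mem_iSup.2 ⟨x, hxW x⟩
  rw [IsZariskiLocalAtTarget.iff_of_iSup_eq_top (P := @Flat) W hcov]
  intro x
  have : IsAffine (W x : Scheme.{u}) := hW x
  have : IsAffine (p ⁻¹ᵁ (W x) : Scheme.{u}) := (hW x).preimage p
  rw [HasRingHomProperty.iff_of_isAffine (P := @Flat)]
  have hf := flat_appTop_of_isCoord (hW x) (A.adm_coord (hy x))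
  rw [morphismRestrict_appTop]
  refine RingHom.Flat.comp (?_ : (p.app ((W x).ι ''ᵁ ⊤)).hom.Flat)
    (RingHom.Flat.of_bijective (ConcreteCategory.bijective_of_isIso (V.presheaf.map _)))
  rw [Scheme.Opens.ι_image_top]
  exact hf

/-- a non-zero-divisor (stalkwise) stays one on flat schemes over the base -/
theorem eq_zero_of_flat {X Z : Scheme.{u}} (f : Z ⟶ X) [Flat f] (U : X.Opens) (t : Γ(X, U))
    (ht : ∀ x (hx : x ∈ U), X.presheaf.germ U x hx t ∈ nonZeroDivisors (X.presheaf.stalk x))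
    (O : Z.Opens) (hO : O ≤ f ⁻¹ᵁ U) (g : Γ(Z, O)) (h : f.appLE U O hO t * g = 0) : g = 0 := by
  refine TopCat.Presheaf.section_ext Z.sheaf O g 0 fun z hz => ?_
  have hU : f z ∈ U := hO hz
  have hfl : (f.stalkMap z).hom.Flat := Flat.stalkMap f z
  have key : (f.stalkMap z) (X.presheaf.germ U (f z) hU t) = Z.presheaf.germ O z hz (f.appLE U O hO t) := by
    rw [Scheme.Hom.germ_stalkMap_apply, Scheme.Hom.appLE, CommRingCat.comp_apply]
    exact (TopCat.Presheaf.germ_res_apply _ _ _ _ _).symm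
  let _ : Algebra (X.presheaf.stalk (f z)) (Z.presheaf.stalk z) := (f.stalkMap z).hom.toAlgebra
  have : Module.Flat (X.presheaf.stalk (f z)) (Z.presheaf.stalk z) := hfl
  have h0 : IsSMulRegular (X.presheaf.stalk (f z)) (X.presheaf.germ U (f z) hU t) := by
    intro a b hab
    exact mul_cancel_left_mem_nonZeroDivisors (ht (f z) hU) |>.1 hab
  have h1 : IsSMulRegular (Z.presheaf.stalk z) ((f.stalkMap z) (X.presheaf.germ U (f z) hU t)) := h0.of_flat
  have h2 : (f.stalkMap z) (X.presheaf.germ U (f z) hU t) * (Z.presheaf.germ O z hz g) = 0 := by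
    rw [key, ← map_mul, h, map_zero]
  have h3 : Z.presheaf.germ O z hz g = 0 := h1 (h2.trans (mul_zero _).symm)
  change Z.presheaf.germ O z hz g = Z.presheaf.germ O z hz 0
  rw [h3, map_zero]

end K405.FlatBun
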